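import Mathlib
import Cfsg.Agent.H470.NoBad
import Cfsg.Agent.H898.J3Cent
import Cfsg.Agent.H315.JThreeFact
import Cfsg.Agent.CpAutJThree.Row
import Cfsg.Agent.Lib.InvolutionKernel

/-!
# `NoBad 3` for `J₃` (helper500, for S3877)

A bad element `x` of order 3 commutes with no involution (`odd_centralizer`), hence with no element of order 3 which
commutes with an involution (`false_of_comm_three`); the primes 5, 17, 19 do not divide `|C(x)|`, so `|C(x)| = 3 ^ 5` and
`C(x)` is a Sylow 3-subgroup, which contains elements of order 3 commuting with an involution.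
-/

set_option autoImplicit false

namespace Cfsg.Agent.H500.NB

open Subgroup Cfsg Cfsg.Agent.H470 Cfsg.Agent.J3Type.OneClass Cfsg.Agent.J2Type.Model
open scoped Pointwise

universe u

/-- elements of order 3 commute in a group with a central element `y` of order 5 and an involution `t` with centralizer
of order 10 -/
theorem comm_of_ten {D : Type*} [Group D] [Finite D] {y t x c : D} (hy : orderOf y = 5) (hyc : ∀ d, d * y = y * d)
    (ht : orderOf t = 2) (hC : Nat.card ↥(centralizer ({t} : Set D)) = 10) (hx : orderOf x = 3) (hc : orderOf c = 3) :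
    x * c = c * x := by
  have hNn : (zpowers y).Normal := by
    constructor
    rintro n ⟨k, rfl⟩ g
    refine ⟨k, ?_⟩
    have h1 : Commute g y := hyc g
    show y ^ k = g * y ^ k * g⁻¹
    rw [(h1.zpow_right k).eq]
    group
  have hyk : ∀ n ∈ zpowers y, ∀ d : D, d * n = n * d := by
    rintro n ⟨k, rfl⟩ d
    have h1 : Commute d y := hyc d
    exact (h1.zpow_right k).eq
  have hord : ∀ n ∈ zpowers y, orderOf n ∣ 5 := by
    intro n hn
    have := orderOf_dvd_natCard (⟨n, hn⟩ : ↥(zpowers y))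
    rwa [Subgroup.orderOf_mk, Nat.card_zpowers, hy] at this
  have hcop : ∀ n ∈ zpowers y, ∀ m : ℕ, Nat.Coprime m 5 → n ^ m = 1 → n = 1 := by
    intro n hn m hm h
    rw [← orderOf_eq_one_iff]
    exact Nat.eq_one_of_dvd_coprimes hm (orderOf_dvd_of_pow_eq_one h) (hord n hn)
  have htt : t * t = 1 := by rw [← pow_two, ← ht, pow_orderOf_eq_one]
  set π := QuotientGroup.mk' (zpowers y) with hπ
  have hker : ∀ d : D, π d = 1 ↔ d ∈ zpowers y := fun d => QuotientGroup.eq_one_iff d
  have hT1 : π t ≠ 1 := by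
    intro h
    have h1 := hord t ((hker t).1 h)
    rw [ht] at h1
    omega
  have hTT : π t * π t = 1 := by rw [← map_mul, htt, map_one]
  -- the centralizer of the image of `t`
  have hcent : ∀ d : D, π d * π t = π t * π d → d ∈ centralizer ({t} : Set D) := by
    intro d hd
    rw [mem_centralizer_singleton_iff]
    have h1 : d * t * d⁻¹ * t⁻¹ ∈ zpowers y := by
      rw [← hker, map_mul, map_mul, map_mul, hd, map_inv, map_inv]
      group
    obtain ⟨n, hn⟩ : ∃ n, n = d * t * d⁻¹ * t⁻¹ := ⟨_, rfl⟩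
    rw [← hn] at h1
    have h2 : d * t * d⁻¹ = n * t := by rw [hn]; group
    have h3 : n ^ 2 = 1 := by
      have h4 : (d * t * d⁻¹) * (d * t * d⁻¹) = 1 := by
        calc (d * t * d⁻¹) * (d * t * d⁻¹) = d * (t * t) * d⁻¹ := by group
          _ = 1 := by rw [htt]; group
      rw [h2] at h4
      calc n ^ 2 = n * n * (t * t) := by rw [htt, mul_one, pow_two]
        _ = n * (n * t) * t := by group
        _ = n * (t * n) * t := by rw [hyk n h1 t]
        _ = (n * t) * (n * t) := by group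
        _ = 1 := h4
    have h4 := hcop n h1 2 (by norm_num) h3
    rw [h4, one_mul] at h2
    calc d * t = (d * t * d⁻¹) * d := by group
      _ = t * d := by rw [h2]
  have hle : centralizer ({π t} : Set (D ⧸ zpowers y)) ≤ (centralizer ({t} : Set D)).map π := by
    intro q hq
    obtain ⟨d, rfl⟩ := QuotientGroup.mk'_surjective (zpowers y) q
    rw [mem_centralizer_singleton_iff] at hq
    exact ⟨d, hcent d hq, rfl⟩
  have hcard2 : Nat.card ↥((centralizer ({t} : Set D)).map π) = 2 := by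
    have h1 : (zpowers y) ≤ centralizer ({t} : Set D) := by
      intro n hn
      rw [mem_centralizer_singleton_iff]
      exact (hyk n hn t).symm
    have h2 : Nat.card ↥((centralizer ({t} : Set D)).map π) * Nat.card ↥(zpowers y) = 10 := by
      rw [← hC, ← relIndex_bot_left, ← relIndex_bot_left (centralizer ({t} : Set D))]
      have h3 := Subgroup.relIndex_mul_relIndex (⊥ : Subgroup D) (zpowers y) (centralizer ({t} : Set D)) bot_le h1
      rw [← h3, relIndex_bot_left, relIndex_bot_left, mul_comm]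
      congr 1
      have h4 := Subgroup.relIndex_ker (centralizer ({t} : Set D)) π
      rw [QuotientGroup.ker_mk'] at h4
      rw [h4]
    rw [Nat.card_zpowers, hy] at h2
    omega
  have h4 : ¬ 4 ∣ Nat.card ↥(centralizer ({π t} : Set (D ⧸ zpowers y))) := by
    intro h
    have h1 := Subgroup.card_le_of_le hle
    rw [hcard2] at h1
    have h2 : 0 < Nat.card ↥(centralizer ({π t} : Set (D ⧸ zpowers y))) := Nat.card_pos
    have := Nat.le_of_dvd h2 h
    omega
  obtain ⟨K, hKn, hKo, -, hK⟩ := Cfsg.Agent.Lib.InvolutionKernel.exists_odd_index_two hTT hT1 h4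
  -- conjugation by `π t` on `K`
  let φ : ↥K → ↥K := fun k => ⟨π t * k * (π t)⁻¹, hKn.conj_mem k k.2 _⟩
  let f : ↥K →* ↥K := MonoidHom.mk' φ (fun a b => Subtype.ext (by
    show π t * ((a : D ⧸ zpowers y) * b) * (π t)⁻¹ = π t * a * (π t)⁻¹ * (π t * b * (π t)⁻¹)
    group))
  have hcomm := MonoidHom.FixedPointFree.commute_all_of_involutive (φ := f) (G := ↥K) ?_ ?_
  · have hxK : π x ∈ K := by
      rw [hK]
      exact (by rw [hx]; decide : Odd (orderOf x)).of_dvd_nat (orderOf_map_dvd π x)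
    have hcK : π c ∈ K := by
      rw [hK]
      exact (by rw [hc]; decide : Odd (orderOf c)).of_dvd_nat (orderOf_map_dvd π c)
    have h5 := congrArg Subtype.val (hcomm ⟨π x, hxK⟩ ⟨π c, hcK⟩)
    have h6 : π x * π c = π c * π x := h5
    have h7 : x * c * x⁻¹ * c⁻¹ ∈ zpowers y := by
      rw [← hker, map_mul, map_mul, map_mul, h6, map_inv, map_inv]
      group
    obtain ⟨n, hn⟩ : ∃ n, n = x * c * x⁻¹ * c⁻¹ := ⟨_, rfl⟩
    rw [← hn] at h7
    have h8 : x * c * x⁻¹ = n * c := by rw [hn]; group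
    have h9 : n ^ 3 = 1 := by
      have h10 : (n * c) ^ 3 = 1 := by
        rw [← h8, conj_pow, ← hc, pow_orderOf_eq_one]
        group
      have h11 : Commute n c := (hyk n h7 c).symm
      rw [h11.mul_pow, ← hc, pow_orderOf_eq_one, mul_one, hc] at h10
      exact h10
    have h10 := hcop n h7 3 (by norm_num) h9
    rw [h10, one_mul] at h8
    calc x * c = (x * c * x⁻¹) * x := by group
      _ = c * x := by rw [h8]
  · -- fixed point free
    intro k hk
    have h5 : π t * (k : D ⧸ zpowers y) * (π t)⁻¹ = k := congrArg Subtype.val hk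
    have h6 : (k : D ⧸ zpowers y) ∈ (centralizer ({t} : Set D)).map π := by
      apply hle
      rw [mem_centralizer_singleton_iff]
      calc (k : D ⧸ zpowers y) * π t = (π t * k * (π t)⁻¹) * π t := by rw [h5]
        _ = π t * k := by group
    have h7 : orderOf (k : D ⧸ zpowers y) ∣ 2 := by
      rw [← hcard2]
      have := orderOf_dvd_natCard (⟨k, h6⟩ : ↥((centralizer ({t} : Set D)).map π))
      rwa [Subgroup.orderOf_mk] at this
    have h8 : Odd (orderOf (k : D ⧸ zpowers y)) := (hK _).1 k.2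
    rcases (Nat.dvd_prime Nat.prime_two).1 h7 with h9 | h9
    · exact Subtype.ext (orderOf_eq_one_iff.1 h9)
    · rw [h9] at h8
      exact absurd h8 (by decide)
  · intro k
    apply Subtype.ext
    show π t * (π t * k * (π t)⁻¹) * (π t)⁻¹ = k
    have h5 : (π t)⁻¹ = π t := inv_eq_of_mul_eq_one_left hTT
    rw [h5]
    calc π t * (π t * k * π t) * π t = (π t * π t) * k * (π t * π t) := by group
      _ = k := by rw [hTT]; group

section J3

variable {K : Type u} [Group K]

/-- a bad element of order 3 commutes with no involution -/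
theorem not_comm_two [Finite K] (h : Spor.IsoJ3 K) {x t : K} (hx : Bad 3 x) (ht : orderOf t = 2) (hc : x * t = t * x) :
    False := by
  obtain ⟨hs, hcK, -⟩ := H898.J3Cent.base h
  obtain ⟨ψ, -, hψ, hψc⟩ := H315.JThreeFact.exists_psi h t ht
  have hM : centralizer ({t} : Set K) ≠ ⊤ := by
    intro h1
    have h2 := (CpAutJThree.base h).2.1 t ht
    have h3 := h2.2.1
    rw [h1, card_top, hcK] at h3
    omega
  have hxC : x ∈ centralizer ({t} : Set K) := mem_centralizer_singleton_iff.2 hc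
  obtain ⟨N, hN1, hN2, hN3, hN4⟩ := hx.rad _ hM hxC
  have h1 : ∀ k ∈ ψ.ker, (⟨x, hxC⟩ : centralizer ({t} : Set K)) * k = k * ⟨x, hxC⟩ := by
    intro k hk
    -- the commutator lies in `N` and in the kernel
    have h2 : (⟨x, hxC⟩ : centralizer ({t} : Set K)) * k * (⟨x, hxC⟩ : centralizer ({t} : Set K))⁻¹ * k⁻¹ ∈ ψ.ker :=
      mul_mem ((MonoidHom.normal_ker ψ).conj_mem k hk _) (inv_mem hk)
    have h3 : x * (k : K) * x⁻¹ * (k : K)⁻¹ ∈ N := by
      have h4 : x * (k : K) * x⁻¹ * (k : K)⁻¹ = x * ((k : K) * x * (k : K)⁻¹)⁻¹ := by group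
      rw [h4]
      exact mul_mem hN4 (inv_mem (hN2 k k.2 x hN4))
    have h4 : orderOf (x * (k : K) * x⁻¹ * (k : K)⁻¹) ∣ Nat.card N := by
      have := orderOf_dvd_natCard (⟨_, h3⟩ : N)
      rwa [Subgroup.orderOf_mk] at this
    have h5 : orderOf (x * (k : K) * x⁻¹ * (k : K)⁻¹) ∣ 32 := by
      have := orderOf_dvd_natCard (⟨_, h2⟩ : ψ.ker)
      rw [Subgroup.orderOf_mk, hψ] at this
      rw [← Subgroup.orderOf_coe] at this
      exact this
    have h6 : Nat.Coprime (Nat.card N) 32 := by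
      rw [show (32 : ℕ) = 2 ^ 5 by norm_num]
      exact Nat.Coprime.pow_right 5 (Nat.coprime_two_right.2 hN3)
    have h7 := Nat.eq_one_of_dvd_coprimes h6 h4 h5
    rw [orderOf_eq_one_iff] at h7
    apply Subtype.ext
    show x * (k : K) = k * x
    calc x * (k : K) = (x * (k : K) * x⁻¹ * (k : K)⁻¹) * (k * x) := by group
      _ = k * x := by rw [h7, one_mul]
  rcases hψc _ h1 with h2 | h2
  · have h3 : x = 1 := h2
    have := hx.ord
    rw [h3, orderOf_one] at this
    omega
  · have h3 : x = t := h2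
    have := hx.ord
    rw [h3, ht] at this
    omega

theorem odd_cent [Finite K] (h : Spor.IsoJ3 K) {x : K} (hx : Bad 3 x) :
    Odd (Nat.card ↥(centralizer ({x} : Set K))) := by
  by_contra hcon
  rw [Nat.not_odd_iff_even, even_iff_two_dvd] at hcon
  have : Fact (Nat.Prime 2) := ⟨Nat.prime_two⟩
  obtain ⟨t, ht⟩ := exists_prime_orderOf_dvd_card' 2 hcon
  refine not_comm_two h hx (t := t) ?_ (mem_centralizer_singleton_iff.1 t.2).symm
  rw [← ht]
  exact Subgroup.orderOf_coe t

/-- a bad element does not commute with the elements of order 3 which commute with an involution -/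
theorem not_comm_three [Finite K] (h : Spor.IsoJ3 K) {x c t : K} (hx : Bad 3 x) (hc : orderOf c = 3)
    (ht : orderOf t = 2) (htc : t * c = c * t) (hxc : x * c = c * x) : False := by
  obtain ⟨hcard, hM, hone, -⟩ := CpAutJThree.base h
  have memC : ∀ a : K, a ∈ centralizer ({c} : Set K) ↔ a * c = c * a := fun a => mem_centralizer_singleton_iff
  obtain ⟨c0, hc0, ⟨s, hs, hsc⟩, hc0c⟩ := CpAutJThree.exc h
  obtain ⟨g, hg⟩ := CpAutJThree.conj_three hM hone hc0 hc hs ht hsc htc
  have hC : Nat.card ↥(centralizer ({c} : Set K)) = 1080 := by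
    rw [← CpAutJThree.card_centralizer_conj g hg]; exact hc0c
  let d : centralizer ({c} : Set K) := ⟨c, (memC c).2 rfl⟩
  have hd3 : orderOf d = 3 := by rw [← hc]; exact orderOf_mk _ _
  have hdd : ∀ a : centralizer ({c} : Set K), a * d = d * a := fun a => Subtype.ext ((memC a).1 a.2)
  have hZn : (zpowers d).Normal := by
    constructor
    rintro n ⟨k, rfl⟩ g
    refine ⟨k, ?_⟩
    have h1 : Commute g d := hdd g
    have := h1.zpow_right k
    show d ^ k = g * d ^ k * g⁻¹
    rw [this.eq]; group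
  have hHD8 := J3Type.Extra.hd8_quotient d hd3 hdd (CpAutJThree.hD_of_model hM hc)
  have hq : Nat.card (↥(centralizer ({c} : Set K)) ⧸ zpowers d) = 360 := by
    have := card_eq_card_quotient_mul_card_subgroup (zpowers d)
    rw [hC, Nat.card_zpowers, hd3] at this
    omega
  have : Fact (Nat.Prime 2) := ⟨Nat.prime_two⟩
  obtain ⟨s', hs'⟩ := exists_prime_orderOf_dvd_card' (G := ↥(centralizer ({c} : Set K)) ⧸ zpowers d) 2
    (by rw [hq]; norm_num)
  have hsim := J3Type.Extra.isSimple hHD8 hs'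
  have hMne : centralizer ({c} : Set K) ≠ ⊤ := by
    intro h1
    rw [h1, card_top, hcard] at hC
    omega
  have hxC : x ∈ centralizer ({c} : Set K) := (memC x).2 hxc
  obtain ⟨N, hN1, hN2, hN3, hN4⟩ := hx.rad _ hMne hxC
  -- the image of `N` in the simple quotient
  have hNn : (N.subgroupOf (centralizer ({c} : Set K))).Normal := ⟨fun n hn g => by
    rw [mem_subgroupOf] at hn ⊢
    exact hN2 g g.2 n hn⟩
  set π := QuotientGroup.mk' (zpowers d) with hπ
  have hI : ((N.subgroupOf (centralizer ({c} : Set K))).map π).Normal :=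
    hNn.map π (QuotientGroup.mk'_surjective _)
  have hcN : Nat.card (N.subgroupOf (centralizer ({c} : Set K))) = Nat.card N :=
    Nat.card_congr (Subgroup.subgroupOfEquivOfLe hN1).toEquiv
  have hodd : Odd (Nat.card ((N.subgroupOf (centralizer ({c} : Set K))).map π)) :=
    (hcN ▸ hN3 : Odd (Nat.card (N.subgroupOf (centralizer ({c} : Set K))))).of_dvd_nat (Subgroup.card_map_dvd _ _)
  have hbot : (N.subgroupOf (centralizer ({c} : Set K))).map π = ⊥ := by
    rcases hI.eq_bot_or_eq_top with h1 | h1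
    · exact h1
    · rw [h1, card_top, hq] at hodd
      exact absurd hodd (by decide)
  have h1 : π ⟨x, hxC⟩ ∈ (N.subgroupOf (centralizer ({c} : Set K))).map π :=
    mem_map_of_mem π (mem_subgroupOf.2 hN4)
  rw [hbot, mem_bot] at h1
  have h2 : (⟨x, hxC⟩ : centralizer ({c} : Set K)) ∈ zpowers d := (QuotientGroup.eq_one_iff _).1 h1
  obtain ⟨k, hk⟩ := h2
  have h3 : c ^ k = x := by
    have := congrArg Subtype.val hk
    simpa [d] using this
  -- so `t` commutes with `x`
  refine not_comm_two h hx ht ?_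
  have h4 : Commute t c := htc
  rw [← h3]
  exact ((h4.zpow_right k).eq).symm

theorem dvd_five {n : ℕ} (hn : n ∣ 50232960) (h2 : Odd n) (h5 : ¬ 5 ∣ n) (h17 : ¬ 17 ∣ n) (h19 : ¬ 19 ∣ n) :
    n ∣ 3 ^ 5 := by
  have h1 : (50232960 : ℕ) = 2 ^ 7 * (5 * (17 * (19 * 3 ^ 5))) := by norm_num
  rw [h1] at hn
  have c2 : Nat.Coprime n (2 ^ 7) := Nat.Coprime.pow_right 7 (Nat.coprime_two_right.2 h2)
  have c5 : Nat.Coprime n 5 := ((Nat.Prime.coprime_iff_not_dvd (by norm_num)).2 h5).symm
  have c17 : Nat.Coprime n 17 := ((Nat.Prime.coprime_iff_not_dvd (by norm_num)).2 h17).symm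
  have c19 : Nat.Coprime n 19 := ((Nat.Prime.coprime_iff_not_dvd (by norm_num)).2 h19).symm
  exact c19.dvd_of_dvd_mul_left (c17.dvd_of_dvd_mul_left (c5.dvd_of_dvd_mul_left (c2.dvd_of_dvd_mul_left hn)))

/-- conjugates of subgroups of order 5 -/
theorem conj_zpowers [Finite K] (hcK : Nat.card K = 50232960) {y z : K} (hy : orderOf y = 5) (hz : orderOf z = 5) :
    ∃ g : K, y ∈ zpowers (g * z * g⁻¹) := by
  have h5 : Fact (Nat.Prime 5) := ⟨by norm_num⟩
  have hf : Nat.card K = 5 * 10046592 := by rw [hcK]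
  have hP : ∀ w : K, orderOf w = 5 → ∃ P : Sylow 5 K, (P : Subgroup K) = zpowers w := by
    intro w hw
    have h1 : IsPGroup 5 (zpowers w) := IsPGroup.of_card (n := 1) (by rw [Nat.card_zpowers, hw, pow_one])
    obtain ⟨P, hP⟩ := h1.exists_le_sylow
    refine ⟨P, (Subgroup.eq_of_le_of_card_ge hP ?_).symm⟩
    obtain ⟨n, hn⟩ := IsPGroup.iff_card.1 P.isPGroup'
    rw [hn, Nat.card_zpowers, hw]
    have h2 : Nat.card (P : Subgroup K) ∣ 50232960 := hcK ▸ card_subgroup_dvd_card _
    rw [hn] at h2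
    have h3 : n ≤ 1 := by
      by_contra hcon
      push Not at hcon
      have h4 := (pow_dvd_pow 5 hcon).trans h2
      norm_num at h4
    calc 5 ^ n ≤ 5 ^ 1 := Nat.pow_le_pow_right (by norm_num) h3
      _ = 5 := by norm_num
  obtain ⟨P, hP1⟩ := hP y hy
  obtain ⟨Q, hQ1⟩ := hP z hz
  obtain ⟨g, hg⟩ := MulAction.exists_smul_eq K Q P
  refine ⟨g, ?_⟩
  have h1 : y ∈ (P : Subgroup K) := by rw [hP1]; exact mem_zpowers y
  rw [← hg] at h1
  have h2 : y ∈ MulAut.conj g • (Q : Subgroup K) := h1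
  have h3 := Subgroup.mem_pointwise_smul_iff_inv_smul_mem.1 h2
  have h4 : (MulAut.conj g)⁻¹ • y ∈ zpowers z := by
    rw [← hQ1]
    exact h3
  obtain ⟨k, hk⟩ := h4
  refine ⟨k, ?_⟩
  have h3 : z ^ k = g⁻¹ * y * g := by
    have : z ^ k = (MulAut.conj g)⁻¹ • y := hk
    rw [this]
    simp [MulAut.smul_def]
  show (g * z * g⁻¹) ^ k = y
  rw [conj_zpow, h3]
  group

/-- a bad element does not commute with elements of order 5 -/
theorem not_comm_five [Finite K] (h : Spor.IsoJ3 K) {x y : K} (hx : Bad 3 x) (hy : orderOf y = 5) (hxy : x * y = y * x) :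
    False := by
  obtain ⟨hcard, hM, hone, -⟩ := CpAutJThree.base h
  have h5 : Fact (Nat.Prime 5) := ⟨by norm_num⟩
  have h2 : Fact (Nat.Prime 2) := ⟨by norm_num⟩
  obtain ⟨c0, hc0, ⟨s, hs, hsc⟩, hc0c⟩ := CpAutJThree.exc h
  -- an involution commuting with `y`
  have key : ∀ w : K, 5 ∣ Nat.card ↥(centralizer ({w} : Set K)) → ∃ g : K, (g * w * g⁻¹) * y = y * (g * w * g⁻¹) := by
    intro w hw
    obtain ⟨z, hz⟩ := exists_prime_orderOf_dvd_card' 5 hw
    have hz' : orderOf (z : K) = 5 := by rw [← hz]; exact Subgroup.orderOf_coe z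
    obtain ⟨g, k, hk⟩ := conj_zpowers hcard hy hz'
    refine ⟨g, ?_⟩
    have hk' : (g * (z : K) * g⁻¹) ^ k = y := hk
    have h1 : Commute (g * w * g⁻¹) (g * (z : K) * g⁻¹) := by
      have h3 := mem_centralizer_singleton_iff.1 z.2
      show (g * w * g⁻¹) * (g * (z : K) * g⁻¹) = (g * (z : K) * g⁻¹) * (g * w * g⁻¹)
      calc (g * w * g⁻¹) * (g * (z : K) * g⁻¹) = g * (w * z) * g⁻¹ := by group
        _ = g * (z * w) * g⁻¹ := by rw [h3]
        _ = _ := by group
    rw [← hk']
    exact (h1.zpow_right k).eq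
  obtain ⟨g, hg⟩ := key s (by rw [(hM s hs).2.1]; norm_num)
  obtain ⟨g', hg'⟩ := key c0 (by rw [hc0c]; norm_num)
  set t := g * s * g⁻¹ with ht
  set c := g' * c0 * g'⁻¹ with hc
  have ht2 : orderOf t = 2 := by
    rw [← hs]
    exact orderOf_injective (MulAut.conj g).toMonoidHom (MulAut.conj g).injective s
  have hc3 : orderOf c = 3 := by
    rw [← hc0]
    exact orderOf_injective (MulAut.conj g').toMonoidHom (MulAut.conj g').injective c0
  -- `C(y) ∩ C(t)` has order 10
  obtain ⟨-, hC, Q, v, ρ, M⟩ := hM t ht2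
  have hyt : y ∈ centralizer ({t} : Set K) := mem_centralizer_singleton_iff.2 hg.symm
  have h10 := J2Type.COdd.card_cent_five M hC (c := ⟨y, hyt⟩) (by rw [orderOf_mk]; exact hy)
  have memY : ∀ a : K, a ∈ centralizer ({y} : Set K) ↔ a * y = y * a := fun a => mem_centralizer_singleton_iff
  have memT : ∀ a : K, a ∈ centralizer ({t} : Set K) ↔ a * t = t * a := fun a => mem_centralizer_singleton_iff
  have hcd : Nat.card ↥(centralizer ({(⟨t, (memY t).2 hg⟩ : centralizer ({y} : Set K))} :
      Set (centralizer ({y} : Set K)))) = 10 := by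
    rw [← h10]
    refine Nat.card_congr ⟨fun a => ⟨⟨a.1.1, ?_⟩, ?_⟩, fun a => ⟨⟨a.1.1, ?_⟩, ?_⟩, fun a => rfl, fun a => rfl⟩
    · exact (memT _).2 (congrArg Subtype.val (mem_centralizer_singleton_iff.1 a.2))
    · exact Subtype.ext ((memY _).1 a.1.2)
    · exact (memY _).2 (congrArg Subtype.val a.2)
    · exact mem_centralizer_singleton_iff.2 (Subtype.ext ((memT _).1 a.1.2))
  have h3 := comm_of_ten (D := centralizer ({y} : Set K)) (y := ⟨y, (memY y).2 rfl⟩) (t := ⟨t, (memY t).2 hg⟩)
    (x := ⟨x, (memY x).2 hxy⟩) (c := ⟨c, (memY c).2 hg'⟩) (by rw [orderOf_mk]; exact hy)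
    (fun d => Subtype.ext ((memY _).1 d.2)) (by rw [orderOf_mk]; exact ht2) hcd (by rw [orderOf_mk]; exact hx.ord)
    (by rw [orderOf_mk]; exact hc3)
  have h4 : x * c = c * x := congrArg Subtype.val h3
  -- `c` commutes with an involution
  refine not_comm_three h hx hc3 (t := g' * s * g'⁻¹) ?_ ?_ h4
  · rw [← hs]
    exact orderOf_injective (MulAut.conj g').toMonoidHom (MulAut.conj g').injective s
  · calc g' * s * g'⁻¹ * (g' * c0 * g'⁻¹) = g' * (s * c0) * g'⁻¹ := by group
      _ = g' * (c0 * s) * g'⁻¹ := by rw [hsc]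
      _ = g' * c0 * g'⁻¹ * (g' * s * g'⁻¹) := by group

theorem noBad_J3 (h : Spor.IsoJ3 K) : NoBad 3 K := by
  obtain ⟨hcard, hM, hone, -⟩ := CpAutJThree.base h
  have hfin : Finite K := Nat.finite_of_card_ne_zero (by rw [hcard]; norm_num)
  intro x hx
  have h2 : Fact (Nat.Prime 2) := ⟨by norm_num⟩
  have h3 : Fact (Nat.Prime 3) := ⟨by norm_num⟩
  have memC : ∀ a : K, a ∈ centralizer ({x} : Set K) ↔ a * x = x * a := fun a => mem_centralizer_singleton_iff
  have hno : ∀ p : ℕ, p.Prime → p ∣ Nat.card ↥(centralizer ({x} : Set K)) → ∃ y : K, orderOf y = p ∧ x * y = y * x := by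
    intro p hp hd
    have : Fact p.Prime := ⟨hp⟩
    obtain ⟨y, hy⟩ := exists_prime_orderOf_dvd_card' p hd
    exact ⟨y, by rw [← hy]; exact Subgroup.orderOf_coe y, ((memC y).1 y.2).symm⟩
  have h17 : ¬ 17 ∣ Nat.card ↥(centralizer ({x} : Set K)) := by
    intro hd
    obtain ⟨y, hy, hxy⟩ := hno 17 (by norm_num) hd
    have h1 := (H898.J3Cent.seventeen h hy).1
    have h4 : orderOf x ∣ 17 := by
      rw [← h1]
      have := orderOf_dvd_natCard (⟨x, mem_centralizer_singleton_iff.2 hxy⟩ : ↥(centralizer ({y} : Set K)))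
      rwa [Subgroup.orderOf_mk] at this
    rw [hx.ord] at h4
    omega
  have h19 : ¬ 19 ∣ Nat.card ↥(centralizer ({x} : Set K)) := by
    intro hd
    obtain ⟨y, hy, hxy⟩ := hno 19 (by norm_num) hd
    have h1 := H898.J3Cent.card_nineteen h hy
    have h4 : orderOf x ∣ 19 := by
      rw [← h1]
      have := orderOf_dvd_natCard (⟨x, mem_centralizer_singleton_iff.2 hxy⟩ : ↥(centralizer ({y} : Set K)))
      rwa [Subgroup.orderOf_mk] at this
    rw [hx.ord] at h4
    omega
  have h5 : ¬ 5 ∣ Nat.card ↥(centralizer ({x} : Set K)) := by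
    intro hd
    obtain ⟨y, hy, hxy⟩ := hno 5 (by norm_num) hd
    exact not_comm_five h hx hy hxy
  have hdvd : Nat.card ↥(centralizer ({x} : Set K)) ∣ 3 ^ 5 :=
    dvd_five (hcard ▸ card_subgroup_dvd_card _) (odd_cent h hx) h5 h17 h19
  -- the order is `3 ^ 5`
  obtain ⟨k, hk, hk'⟩ := (Nat.dvd_prime_pow Nat.prime_three).1 hdvd
  obtain ⟨S⟩ : Nonempty (Sylow 2 K) := inferInstance
  have h128 : 128 ∣ Nat.card (S : Subgroup K) :=
    S.pow_dvd_card_of_pow_dvd_card (n := 7) (by rw [hcard]; norm_num)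
  have hge := hx.card_ge S.isPGroup'
  have h6 : 128 ≤ Nat.card (S : Subgroup K) := Nat.le_of_dvd Nat.card_pos h128
  have hk5 : k = 5 := by
    by_contra hne
    have h7 : k ≤ 4 := by omega
    have h8 : 3 ^ k ≤ 3 ^ 4 := Nat.pow_le_pow_right (by norm_num) h7
    rw [hk'] at hge
    omega
  subst hk5
  -- `C(x)` is a Sylow 3-subgroup
  have hp3 : IsPGroup 3 (centralizer ({x} : Set K)) := IsPGroup.of_card hk'
  have hi : ¬ 3 ∣ (centralizer ({x} : Set K)).index := by
    have h1 := Subgroup.card_mul_index (centralizer ({x} : Set K))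
    rw [hk', hcard] at h1
    intro h2
    omega
  obtain ⟨c, hc, ⟨s, hs, hsc⟩, -⟩ := CpAutJThree.exc h
  obtain ⟨g, hg⟩ := exists_conj_mem Nat.prime_three hc hi
  refine not_comm_three h hx (c := g * c * g⁻¹) (t := g * s * g⁻¹) ?_ ?_ ?_ ((memC _).1 hg).symm
  · rw [← hc]
    exact orderOf_injective (MulAut.conj g).toMonoidHom (MulAut.conj g).injective c
  · rw [← hs]
    exact orderOf_injective (MulAut.conj g).toMonoidHom (MulAut.conj g).injective s
  · calc g * s * g⁻¹ * (g * c * g⁻¹) = g * (s * c) * g⁻¹ := by group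
      _ = g * (c * s) * g⁻¹ := by rw [hsc]
      _ = _ := by group

end J3

end Cfsg.Agent.H500.NB
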